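import Mathlib
import Groth.Agent.FiniteCompleteLib.Basic

/-!
A form of Krasner's lemma: over a complete local ring with principal maximal ideal, polynomials
close enough to a separable monic polynomial define isomorphic algebras.
-/

set_option autoImplicit false

universe u

open Polynomial

namespace Groth.Agent.KrasnerLib

/-- Newton's lemma without monicity. -/
theorem exists_root_near {E : Type u} [CommRing E] (p : E) [IsAdicComplete (Ideal.span {p}) E]
    (f : E[X]) (x : E) (c : ℕ) (u w : E) (hu : f.derivative.eval x * u = p ^ c)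
    (hf : f.eval x = p ^ (3 * c + 1) * w) :
    ∃ y : E, f.eval y = 0 ∧ p ∣ y - x := by
  classical
  set P : E[X] := f.comp (C x + X) with hP
  set H : E[X] := P.divX.divX with hH
  have hP0 : P.coeff 0 = f.eval x := by
    rw [coeff_zero_eq_eval_zero, hP, eval_comp]
    simp
  have hP1 : P.coeff 1 = f.derivative.eval x := by
    have h := coeff_derivative P 0
    simp only [Nat.cast_zero, zero_add, mul_one] at h
    rw [← h, coeff_zero_eq_eval_zero, hP, derivative_comp, eval_mul, eval_comp]
    simp
  have hexp : ∀ z : E, f.eval (x + z) = f.eval x + f.derivative.eval x * z + z ^ 2 * H.eval z := by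
    intro z
    have h1 := congrArg (eval z) (X_mul_divX_add P)
    have h2 := congrArg (eval z) (X_mul_divX_add P.divX)
    simp only [eval_add, eval_mul, eval_X, eval_C, coeff_divX] at h1 h2
    have h3 : P.eval z = f.eval (x + z) := by
      rw [hP, eval_comp]; simp
    rw [← h3, ← h1, ← h2, hP0, hP1, hH]
    ring
  set a : E := p ^ c * u
  set R : E[X] := X * (C (u ^ 2) * H.comp (C a * X))
  let T : E → E := fun t => -(p ^ (c + 1) * w) - t * R.eval t
  let t : ℕ → E := fun n => T^[n] 0
  have hR : ∀ s : E, p ∣ s → p ∣ R.eval s := by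
    intro s hs
    simp only [R, eval_mul, eval_X]
    exact hs.mul_right _
  have hT : ∀ s : E, p ∣ s → p ∣ T s := by
    intro s hs
    exact dvd_sub (dvd_neg.2 ((dvd_pow_self p (Nat.succ_ne_zero c)).mul_right _)) (hs.mul_right _)
  have hcontr : ∀ (m : ℕ) (s s' : E), p ∣ s → p ∣ s' → p ^ m ∣ s - s' →
      p ^ (m + 1) ∣ T s - T s' := by
    intro m s s' hs hs' hd
    have heq : T s - T s' = -((s - s') * R.eval s + s' * (R.eval s - R.eval s')) := by
      simp only [T]; ring
    rw [heq, dvd_neg, pow_succ]
    refine dvd_add (mul_dvd_mul hd (hR s hs)) ?_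
    rw [mul_comm (p ^ m) p]
    exact mul_dvd_mul hs' (hd.trans (sub_dvd_eval_sub s s' R))
  have htp : ∀ n, p ∣ t n := by
    intro n
    induction n with
    | zero => exact dvd_zero p
    | succ n ih =>
      simp only [t, Function.iterate_succ', Function.comp_apply]
      exact hT _ ih
  have hcau : ∀ n, p ^ n ∣ t (n + 1) - t n := by
    intro n
    induction n with
    | zero => simp
    | succ n ih =>
      have h := hcontr n _ _ (htp (n + 1)) (htp n) ih
      simp only [t, Function.iterate_succ', Function.comp_apply] at h ⊢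
      exact h
  have hcau' : ∀ m k, p ^ m ∣ t (m + k) - t m := by
    intro m k
    induction k with
    | zero => simp
    | succ k ih =>
      have := dvd_add ((pow_dvd_pow p (Nat.le_add_right m k)).trans (hcau (m + k))) ih
      rwa [sub_add_sub_cancel] at this
  have hmem : ∀ (n : ℕ) (e : E), e ∈ ((Ideal.span {p}) ^ n • ⊤ : Ideal E) ↔ p ^ n ∣ e := by
    intro n e
    rw [Ideal.span_singleton_pow, smul_eq_mul, Ideal.mul_top, Ideal.mem_span_singleton]
  have hpre : IsPrecomplete (Ideal.span {p}) E := inferInstance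
  obtain ⟨L, hL⟩ := hpre.prec' t (fun {m n} hmn => by
    rw [SModEq.sub_mem, hmem]
    obtain ⟨k, rfl⟩ := Nat.exists_eq_add_of_le hmn
    rw [← dvd_neg, neg_sub]
    exact hcau' m k)
  have hLd : ∀ n, p ^ n ∣ t n - L := fun n => by
    rw [← hmem]
    exact SModEq.sub_mem.1 (hL n)
  have hLp : p ∣ L := by
    have h1 := dvd_sub (htp 1) (pow_one p ▸ hLd 1)
    rwa [sub_sub_cancel] at h1
  have hfix : T L = L := by
    have hH' : IsHausdorff (Ideal.span {p}) E := inferInstance
    rw [← sub_eq_zero]
    refine hH'.haus' _ fun n => ?_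
    rw [SModEq.zero, hmem]
    have h1 := hcontr n L (t n) hLp (htp n) (by rw [← dvd_neg, neg_sub]; exact hLd n)
    have h2 := hLd (n + 1)
    simp only [t, Function.iterate_succ', Function.comp_apply] at h2
    have h3 := dvd_add h1 h2
    rw [sub_add_sub_cancel] at h3
    exact (pow_dvd_pow p (Nat.le_succ n)).trans h3
  refine ⟨x + a * L, ?_, ?_⟩
  · rw [hexp, hf, show f.derivative.eval x * (a * L) = p ^ c * (f.derivative.eval x * u) * L from by
      simp only [a]; ring, hu]
    have hRL : R.eval L = L * (u ^ 2 * H.eval (a * L)) := by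
      simp [R, eval_comp]
    have h4 : L + (p ^ (c + 1) * w + L * R.eval L) = 0 := by
      have h5 : -(p ^ (c + 1) * w) - L * R.eval L = L := hfix
      linear_combination -h5
    rw [hRL] at h4
    calc _ = p ^ (2 * c) * (L + (p ^ (c + 1) * w + L * (L * (u ^ 2 * H.eval (a * L))))) := by
          simp only [a]; ring
      _ = 0 := by rw [h4, mul_zero]
  · rw [add_sub_cancel_left]
    exact hLp.mul_left _

/-- The algebras of two close separable polynomials are isomorphic. -/
theorem exists_algEquiv_adjoinRoot {O : Type u} [CommRing O] [IsNoetherianRing O] [IsLocalRing O]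
    (p : O) (hp : IsLocalRing.maximalIdeal O = Ideal.span {p}) [IsAdicComplete (Ideal.span {p}) O]
    (f g : O[X]) (hf : f.Monic) (hg : g.Monic) (hdeg : f.natDegree = g.natDegree) (c : ℕ)
    (a b : O[X]) (hab : a * f + b * f.derivative = C (p ^ c))
    (hclose : ∀ i, p ^ (3 * c + 1) ∣ (f - g).coeff i) :
    Nonempty (AdjoinRoot f ≃ₐ[O] AdjoinRoot g) := by
  classical
  haveI := hg.finite_adjoinRoot
  haveI := hf.finite_adjoinRoot
  haveI := hg.free_adjoinRoot
  haveI := hf.free_adjoinRoot
  set ϖ : AdjoinRoot g := algebraMap O (AdjoinRoot g) p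
  haveI : IsAdicComplete (Ideal.span {ϖ}) (AdjoinRoot g) := by
    have h := (IsAdicComplete.map_algebraMap_iff (S := AdjoinRoot g) (Ideal.span {p}) (AdjoinRoot g)).2
      (FiniteCompleteLib.isAdicComplete_of_finite _ _)
    rwa [Ideal.map_span, Set.image_singleton] at h
  set x : AdjoinRoot g := AdjoinRoot.root g
  obtain ⟨e, he⟩ : C (p ^ (3 * c + 1)) ∣ f - g := C_dvd_iff_dvd_coeff _ _ |>.2 hclose
  have hfx : aeval x f = ϖ ^ (3 * c + 1) * aeval x e := by
    have h := congrArg (aeval x) he
    rw [map_sub, AdjoinRoot.aeval_eq g, AdjoinRoot.mk_self, sub_zero, map_mul, aeval_C, map_pow] at h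
    exact h
  have hab' := congrArg (aeval x) hab
  rw [map_add, map_mul, map_mul, aeval_C, map_pow, hfx] at hab'
  have hunit : IsUnit (1 - ϖ ^ (2 * c + 1) * (aeval x a * aeval x e)) := by
    have hj := IsAdicComplete.le_jacobson_bot (Ideal.span {ϖ})
    have hmem : ϖ ^ (2 * c + 1) * (aeval x a * aeval x e) ∈ Ideal.span {ϖ} :=
      Ideal.mul_mem_right _ _ (Ideal.pow_mem_of_mem _ (Ideal.mem_span_singleton_self ϖ) _ (by omega))
    have := Ideal.mem_jacobson_bot.1 (hj hmem) (-1)
    convert this using 1
    ring
  obtain ⟨v, hv⟩ := hunit.exists_right_inv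
  obtain ⟨y, hy, hyx⟩ := exists_root_near ϖ (f.map (algebraMap O (AdjoinRoot g))) x c
    (aeval x b * v) (aeval x e)
    (by
      rw [derivative_map, eval_map_algebraMap]
      calc aeval x f.derivative * (aeval x b * v)
            = (ϖ ^ c * (1 - ϖ ^ (2 * c + 1) * (aeval x a * aeval x e))) * v := by
            rw [← mul_assoc, mul_comm (aeval x f.derivative) (aeval x b)]
            congr 1
            have : aeval x b * aeval x f.derivative =
                ϖ ^ c - aeval x a * (ϖ ^ (3 * c + 1) * aeval x e) := by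
              rw [← hab']; ring
            rw [this]
            ring
        _ = ϖ ^ c := by rw [mul_assoc, hv, mul_one])
    (by rw [eval_map_algebraMap]; exact hfx)
  rw [eval_map_algebraMap] at hy
  let φ : AdjoinRoot f →ₐ[O] AdjoinRoot g := AdjoinRoot.liftAlgHom f (Algebra.ofId O _) y (by
    simpa [aeval_def] using hy)
  have hφ : ∀ q : O[X], φ (AdjoinRoot.mk f q) = aeval y q := by
    intro q
    rw [← AdjoinRoot.aeval_eq, ← aeval_algHom_apply]
    congr 1
    exact congrArg (fun z => aeval z) (AdjoinRoot.liftAlgHom_root ..)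
  have hsurj : Function.Surjective φ := by
    have hle : (⊤ : Submodule O (AdjoinRoot g)) ≤ LinearMap.range φ.toLinearMap := by
      refine Submodule.le_of_le_smul_of_le_jacobson_bot (I := IsLocalRing.maximalIdeal O)
        Module.Finite.fg_top (IsLocalRing.maximalIdeal_le_jacobson _) ?_
      intro z _
      obtain ⟨q, rfl⟩ := AdjoinRoot.mk_surjective z
      obtain ⟨r, hr⟩ : y - x ∣ aeval y q - aeval x q := by
        have h := sub_dvd_eval_sub y x (q.map (algebraMap O (AdjoinRoot g)))
        rwa [eval_map_algebraMap, eval_map_algebraMap] at h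
      obtain ⟨s, hs⟩ := hyx
      have : AdjoinRoot.mk g q = φ (AdjoinRoot.mk f q) + p • (-(s * r)) := by
        rw [hφ, ← AdjoinRoot.aeval_eq q, Algebra.smul_def]
        have h2 : aeval y q - aeval x q = ϖ * (s * r) := by rw [hr, hs, mul_assoc]
        linear_combination -h2
      rw [this]
      exact Submodule.add_mem_sup (LinearMap.mem_range_self φ.toLinearMap (AdjoinRoot.mk f q))
        (Submodule.smul_mem_smul (hp ▸ Ideal.mem_span_singleton_self p) Submodule.mem_top)
    intro z
    exact hle (Submodule.mem_top (x := z))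
  have hinj : Function.Injective φ := by
    let e : AdjoinRoot f ≃ₗ[O] AdjoinRoot g :=
      (AdjoinRoot.powerBasis' hf).basis.equiv (AdjoinRoot.powerBasis' hg).basis
        (finCongr (by simp [hdeg]))
    have h1 : Function.Surjective (e.symm.toLinearMap ∘ₗ φ.toLinearMap) :=
      e.symm.surjective.comp hsurj
    have h2 := OrzechProperty.injective_of_surjective_endomorphism _ h1
    exact fun z z' h => h2 (congrArg e.symm h)
  exact ⟨AlgEquiv.ofBijective φ ⟨hinj, hsurj⟩⟩

end Groth.Agent.KrasnerLib
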